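import Mathlib

set_option autoImplicit false
universe u

namespace Groth.Agent.SepRes8
open Polynomial

theorem exists_root_of_derivative_ne_zero (K : Type u) [Field K] [IsSepClosed K] :
    ∀ G : K[X], derivative G ≠ 0 → ∃ x, G.eval x = 0 := by
  intro G
  induction G using UniqueFactorizationMonoid.induction_on_prime with
  | h₁ => intro h; simp at h
  | h₂ x hx =>
    intro h
    obtain ⟨c, rfl⟩ : ∃ c, x = C c := ⟨x.coeff 0, eq_C_of_degree_eq_zero (Polynomial.isUnit_iff_degree_eq_zero.mp hx)⟩
    simp at h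
  | h₃ a q ha hq ih =>
    intro h
    by_cases hqd : derivative q = 0
    · obtain ⟨x, hx⟩ := ih (fun ha0 => h (by rw [derivative_mul, hqd, ha0, zero_mul, mul_zero, add_zero]))
      exact ⟨x, by rw [eval_mul, hx, mul_zero]⟩
    · have hsep : q.Separable := (Polynomial.separable_iff_derivative_ne_zero hq.irreducible).mpr hqd
      obtain ⟨x, hx⟩ := IsSepClosed.exists_root q (fun h0 => hq.not_unit (Polynomial.isUnit_iff_degree_eq_zero.mpr h0)) hsep
      exact ⟨x, by rw [eval_mul, show q.eval x = 0 from hx, zero_mul]⟩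

theorem residue_algClosed (A : Type u) [CommRing A] [IsDomain A] [IsIntegrallyClosed A] [IsSepClosed (FractionRing A)]
    (p : Ideal A) [p.IsPrime] (hp : p ≠ ⊥) : IsAlgClosed p.ResidueField := by
  classical
  set K := FractionRing A
  set κ := p.ResidueField
  refine IsAlgClosed.of_exists_root κ fun q hm hq => ?_
  have hd : 0 < q.natDegree := hq.natDegree_pos
  -- clear denominators
  obtain ⟨b, hb⟩ := IsLocalization.exist_integer_multiples (nonZeroDivisors (A ⧸ p)) (Finset.range q.natDegree) (fun i => q.coeff i)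
  obtain ⟨b0, hb0⟩ := Ideal.Quotient.mk_surjective (b : A ⧸ p)
  have hb' : algebraMap A κ b0 = algebraMap (A ⧸ p) κ (b : A ⧸ p) := by
    rw [← hb0, ← Ideal.Quotient.algebraMap_eq, ← IsScalarTower.algebraMap_apply]
  have hbne : algebraMap A κ b0 ≠ 0 := by
    rw [hb']
    exact (map_ne_zero_iff _ (IsFractionRing.injective (A ⧸ p) κ)).mpr (nonZeroDivisors.coe_ne_zero b)
  have hlift : scaleRoots q (algebraMap A κ b0) ∈ lifts (algebraMap A κ) := by
    rw [lifts_iff_coeff_lifts]
    intro i
    rw [coeff_scaleRoots]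
    rcases lt_or_ge i q.natDegree with hi | hi
    · obtain ⟨a, ha⟩ := hb i (Finset.mem_range.mpr hi)
      obtain ⟨a0, rfl⟩ := Ideal.Quotient.mk_surjective a
      refine ⟨a0 * b0 ^ (q.natDegree - i - 1), ?_⟩
      rw [map_mul, map_pow, IsScalarTower.algebraMap_apply A (A ⧸ p) κ a0, Ideal.Quotient.algebraMap_eq, ha, Algebra.smul_def, ← hb']
      obtain ⟨j, hj⟩ : ∃ j, q.natDegree - i = j + 1 := ⟨q.natDegree - i - 1, by omega⟩
      rw [hj, pow_succ, Nat.add_sub_cancel]
      ring
    · rcases eq_or_lt_of_le hi with h | h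
      · exact ⟨1, by rw [map_one, ← h, Nat.sub_self, pow_zero, mul_one, hm.coeff_natDegree]⟩
      · exact ⟨0, by rw [map_zero, coeff_eq_zero_of_natDegree_lt h, zero_mul]⟩
  obtain ⟨F, hF, hFd, hFm⟩ := lifts_and_natDegree_eq_and_monic hlift ((monic_scaleRoots_iff _).mpr hm)
  obtain ⟨c0, hc0, hc0'⟩ := Submodule.exists_mem_ne_zero_of_ne_bot hp
  have hFd' : F.natDegree = q.natDegree := by rw [hFd, natDegree_scaleRoots]
  -- perturb to get a nonzero derivative
  obtain ⟨c, hc, hder, hmon⟩ : ∃ c ∈ p, derivative ((F + C c * X).map (algebraMap A K)) ≠ 0 ∧ (F + C c * X).Monic := by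
    by_cases h0 : derivative (F.map (algebraMap A K)) = 0
    · have h2 : 2 ≤ F.natDegree := by
        by_contra hlt
        have h1 : F.natDegree = 1 := by omega
        have hcoeff : F.coeff 1 = 1 := h1 ▸ hFm.coeff_natDegree
        have := congrArg (fun r : K[X] => r.coeff 0) h0
        simp [coeff_derivative, hcoeff] at this
      refine ⟨c0, hc0, ?_, hFm.add_of_left ?_⟩
      · rw [Polynomial.map_add, derivative_add, h0, zero_add, Polynomial.map_mul, map_C, map_X, derivative_C_mul, derivative_X, mul_one, Ne, C_eq_zero]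
        exact (map_ne_zero_iff _ (IsFractionRing.injective A K)).mpr hc0'
      · refine lt_of_le_of_lt (degree_C_mul_X_le c0) ?_
        rw [degree_eq_natDegree hFm.ne_zero]
        exact_mod_cast h2
    · exact ⟨0, p.zero_mem, by simpa using h0, by simpa using hFm⟩
  obtain ⟨x, hx⟩ := exists_root_of_derivative_ne_zero K _ hder
  obtain ⟨y, rfl⟩ := IsIntegrallyClosed.isIntegral_iff.mp (⟨_, hmon, by rwa [eval_map] at hx⟩ : IsIntegral A x)
  rw [eval_map, eval₂_at_apply] at hx
  have hy : (F + C c * X).eval y = 0 := (map_eq_zero_iff _ (IsFractionRing.injective A K)).mp hx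
  have hy' := congrArg (algebraMap A κ) hy
  rw [map_zero, eval_add, map_add, eval_mul, eval_C, map_mul,
    show algebraMap A κ c = 0 from Ideal.algebraMap_residueField_eq_zero.mpr hc, zero_mul, add_zero,
    ← eval₂_at_apply, ← eval_map, hF] at hy'
  refine ⟨algebraMap A κ y / algebraMap A κ b0, ?_⟩
  have h3 := scaleRoots_eval₂_mul (p := q) (RingHom.id κ) (algebraMap A κ y / algebraMap A κ b0) (algebraMap A κ b0)
  rw [RingHom.id_apply, mul_div_cancel₀ _ hbne] at h3
  change (scaleRoots q _).eval _ = _ * q.eval _ at h3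
  rw [hy'] at h3
  exact (mul_eq_zero.mp h3.symm).resolve_left (pow_ne_zero _ hbne)

end Groth.Agent.SepRes8
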